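import Cfsg.Agent.Helper28.J1Q.Facts0
import Cfsg.Agent.Helper28.J1Q.Misc
import Cfsg.Agent.Helper28.J1Q.Perm0
set_option autoImplicit false
namespace Cfsg.Agent.Helper28.J1Q
open Cfsg.Agent.Helper28
theorem perm_all : ∀ r, 0 ≤ r → r < 10 → relOk ptabs (tabs.word r) 0 ptabs.n = true := by
  intro r h1 h2
  by_cases c0 : r < 10
  · exact permRange_sound ptabs tabs.word letTr.get 1 1 perm_eq 0 10 perm_ok_0 r (by omega) (by omega)
  omega
theorem subfix_all : ∀ r, r < 0 → relOk ptabs (tabs.word r) 0 1 = true := allLt_sound _ _ subfix_ok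
def factBounds : List Nat := [0, 7]
end Cfsg.Agent.Helper28.J1Q
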